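import Groth.Agent.Lib.GGen15.Counit
import Groth.Agent.Lib.CohFound.StalkLin
import Groth.Agent.Lib.CohFound.RelVan
import Groth.Agent.Lib.CohFound.AffMor
import Groth.Agent.Lib.CohFound.SerreVan
import Groth.Agent.Lib.RelAmple18.Ops
import Groth.Agent.Lib.VeryAmple11.RelCrit
import Groth.Agent.Lib.QuotProj11.Proper
import Groth.Agent.Lib.Kunneth22.Proj
import Groth.Agent.Lib.ThickSp15.Setup
import Groth.Agent.Lib.ModM1.Exact

/-!
# Twists of direct images along an affine base change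
-/

set_option autoImplicit false
set_option linter.style.haveILetI false
set_option maxHeartbeats 800000
set_option backward.isDefEq.respectTransparency false

universe u

open CategoryTheory CategoryTheory.Limits AlgebraicGeometry TopologicalSpace Opposite

namespace Groth.Agent.AffTwist10

open Groth.Agent Groth.Agent.CohFound

variable {X : Scheme.{u}}

/-- Sections of a quasi-coherent module over an affine open whose germs span every stalk span all sections. -/
theorem span_eq_top_of_germ (M : X.Modules) [Coh.IsQCoh M] {U : X.Opens} (hU : IsAffineOpen U)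
    (S : Set Γ(M, U)) (h : ∀ (x : X) (hx : x ∈ U),
      Submodule.span (X.presheaf.stalk x) (M.presheaf.germ U x hx '' S) =
        (⊤ : Submodule (X.presheaf.stalk x) (M.presheaf.stalk x))) :
    Submodule.span Γ(X, U) S = ⊤ := by
  refine eq_top_iff.2 fun m _ => ?_
  let N := Submodule.span Γ(X, U) S
  let I : Ideal Γ(X, U) := N.colon {m}
  suffices hI : I = ⊤ by
    have h1 : (1 : Γ(X, U)) ∈ I := by rw [hI]; trivial
    rw [Submodule.mem_colon_singleton, one_smul] at h1
    exact h1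
  by_contra hne
  obtain ⟨P, hP, hIP⟩ := Ideal.exists_le_maximal I hne
  let x : X := hU.fromSpec (⟨P, hP.isPrime⟩ : PrimeSpectrum Γ(X, U))
  have hx : x ∈ U := by
    have h' : x ∈ Set.range hU.fromSpec := ⟨_, rfl⟩
    rwa [IsAffineOpen.range_fromSpec] at h'
  have hPx : (hU.primeIdealOf ⟨x, hx⟩).asIdeal = P :=
    congrArg PrimeSpectrum.asIdeal (hU.fromSpec.isOpenEmbedding.injective (hU.fromSpec_primeIdealOf ⟨x, hx⟩))
  have key : ∀ b ∈ Submodule.span (X.presheaf.stalk x) (M.presheaf.germ U x hx '' S),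
      ∃ r : Γ(X, U), r ∉ P ∧ ∃ n ∈ N, X.presheaf.germ U x hx r • b = M.presheaf.germ U x hx n := by
    intro b hb
    induction hb using Submodule.span_induction with
    | mem b hb =>
      obtain ⟨s, hs, rfl⟩ := hb
      exact ⟨1, fun h1 => hP.ne_top ((Ideal.eq_top_iff_one _).2 h1), s, Submodule.subset_span hs,
        by rw [map_one, one_smul]⟩
    | zero => exact ⟨1, fun h1 => hP.ne_top ((Ideal.eq_top_iff_one _).2 h1), 0, N.zero_mem,
        by rw [smul_zero, map_zero]⟩
    | add p q _ _ hp hq =>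
      obtain ⟨r, hr, n, hn, e⟩ := hp
      obtain ⟨r', hr', n', hn', e'⟩ := hq
      refine ⟨r * r', fun h1 => (hP.isPrime.mem_or_mem h1).elim hr hr', r' • n + r • n',
        N.add_mem (N.smul_mem _ hn) (N.smul_mem _ hn'), ?_⟩
      rw [map_add, M1.germ_smul, M1.germ_smul, ← e, ← e', map_mul, smul_add, mul_comm, mul_smul]
      congr 1
      rw [mul_comm, mul_smul]
    | smul c b _ hb =>
      obtain ⟨r, hr, n, hn, e⟩ := hb
      haveI := hU.isLocalization_stalk ⟨x, hx⟩
      let := TopCat.Presheaf.algebra_section_stalk X.presheaf (⟨x, hx⟩ : U)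
      obtain ⟨a, s, hc⟩ := IsLocalization.exists_mk'_eq (hU.primeIdealOf ⟨x, hx⟩).asIdeal.primeCompl c
      refine ⟨s.1 * r, fun h1 => (hP.isPrime.mem_or_mem h1).elim (fun h2 => s.2 ((SetLike.ext_iff.1 hPx s.1).2 h2)) hr,
        a • n, N.smul_mem _ hn, ?_⟩
      rw [← hc, M1.germ_smul, ← e, map_mul, smul_smul, smul_smul]
      congr 1
      show X.presheaf.germ U x hx s.1 * X.presheaf.germ U x hx r * _ = _
      rw [mul_comm (X.presheaf.germ U x hx s.1), mul_assoc, mul_comm (X.presheaf.germ U x hx a)]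
      exact congrArg _ (IsLocalization.mk'_spec' (X.presheaf.stalk x) a s)
  obtain ⟨r, hr, n, hn, e⟩ := key (M.presheaf.germ U x hx m) (by rw [h x hx]; trivial)
  have h0 : M.presheaf.germ U x hx (r • m - n) = 0 := by rw [map_sub, M1.germ_smul, e, sub_self]
  obtain ⟨t, ht, htm⟩ := M1.exists_smul_eq_zero_of_germ_eq_zero M hU hx _ h0
  have htP : t ∉ P := hPx ▸ (M1.isUnit_germ_iff hU hx t).1 ht
  refine (fun h1 : t * r ∈ P => (hP.isPrime.mem_or_mem h1).elim htP hr) (hIP ?_)
  rw [Submodule.mem_colon_singleton, mul_smul]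
  rw [smul_sub, sub_eq_zero] at htm
  rw [htm]
  exact N.smul_mem _ hn

variable {Y X' Y' : Scheme.{u}} (f : X ⟶ Y) (g : Y' ⟶ Y) (g' : X' ⟶ X) (f' : X' ⟶ Y')

/-- Over affine opens, the functions on a fibre product are generated by the two factors. -/
theorem closure_app_eq_top (hsq : IsPullback g' f' f g) {V : Y.Opens} (hV : IsAffineOpen V)
    [IsAffineHom g] {U : X.Opens} (hU : IsAffineOpen U) (hUV : U ≤ f ⁻¹ᵁ V)
    (e : g' ⁻¹ᵁ U ≤ f' ⁻¹ᵁ (g ⁻¹ᵁ V)) :
    Subring.closure (Set.range (g'.app U).hom ∪ Set.range (f'.appLE (g ⁻¹ᵁ V) (g' ⁻¹ᵁ U) e).hom) = ⊤ := by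
  haveI : IsAffine V := hV
  haveI : IsAffine U := hU
  haveI : IsAffine (g ⁻¹ᵁ V : Y'.Opens) := hV.preimage g
  have H := Scheme.Hom.isPullback_resLE hsq (le_refl (g ⁻¹ᵁ V)) hUV (UY := g' ⁻¹ᵁ U) (inf_eq_left.2 e).symm
  have hc := ThickSp15.closure_range_eq_top (isPushout_appTop_of_isPullback H)
  let φ : Γ(((g' ⁻¹ᵁ U : X'.Opens) : Scheme.{u}), ⊤) →+* Γ(X', g' ⁻¹ᵁ U) := (g' ⁻¹ᵁ U).topIso.hom.hom
  have hφ : Function.Surjective φ := fun z => ⟨(g' ⁻¹ᵁ U).topIso.inv z, Iso.inv_hom_id_apply _ z⟩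
  have hle := congrArg (Subring.map φ) hc
  rw [RingHom.map_closure, ← RingHom.range_eq_map, RingHom.range_eq_top.2 hφ] at hle
  refine eq_top_iff.2 (hle.ge.trans (Subring.closure_mono ?_))
  rintro _ ⟨w, ⟨a, rfl⟩ | ⟨a, rfl⟩, rfl⟩
  · refine Or.inl ⟨U.topIso.hom a, ?_⟩
    show _ = (g' ⁻¹ᵁ U).topIso.hom ((g'.resLE U (g' ⁻¹ᵁ U) _).appTop a)
    rw [Scheme.Hom.appTop, Scheme.Hom.resLE_app_top, Scheme.Hom.appLE_eq_app]
    exact (Iso.inv_hom_id_apply _ _).symm
  · refine Or.inr ⟨(g ⁻¹ᵁ V).topIso.hom a, ?_⟩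
    show _ = (g' ⁻¹ᵁ U).topIso.hom ((f'.resLE (g ⁻¹ᵁ V) (g' ⁻¹ᵁ U) _).appTop a)
    rw [Scheme.Hom.appTop, Scheme.Hom.resLE_app_top]
    exact (Iso.inv_hom_id_apply _ _).symm

/-- Generation of a direct image along a base change of an affine morphism. -/
theorem epi_counit_push [IsAffineHom g] [IsAffineHom g'] [QuasiCompact f'] [QuasiSeparated f']
    (hsq : IsPullback g' f' f g) (Q : X'.Modules) (hQ : Coh.IsQCoh Q)
    [Epi ((Scheme.Modules.pullbackPushforwardAdjunction f').counit.app Q)] :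
    Epi ((Scheme.Modules.pullbackPushforwardAdjunction f).counit.app ((Scheme.Modules.pushforward g').obj Q)) := by
  let M := (Scheme.Modules.pushforward g').obj Q
  let ε := (Scheme.Modules.pullbackPushforwardAdjunction f).counit.app M
  haveI : Coh.IsQCoh M := M1.isQCoh_push g' hQ
  haveI : Coh.IsQCoh Q := hQ
  refine (M1.epi_iff_stalk _).2 fun x => ?_
  intro b
  suffices h : b ∈ LinearMap.range (stL ε x) by
    obtain ⟨a, ha⟩ := h
    exact ⟨a, ha⟩
  obtain ⟨V, hV, hxV, -⟩ := exists_isAffineOpen_mem_and_subset (X := Y) (x := f x) (U := ⊤) trivial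
  obtain ⟨U, hU, hxU, hUV⟩ := exists_isAffineOpen_mem_and_subset (X := X) (x := x) (U := f ⁻¹ᵁ V) hxV
  have hUV : U ≤ f ⁻¹ᵁ V := hUV
  have e : g' ⁻¹ᵁ U ≤ f' ⁻¹ᵁ (g ⁻¹ᵁ V) := by
    rw [← Scheme.Hom.comp_preimage, ← hsq.w, Scheme.Hom.comp_preimage]
    exact g'.preimage_mono hUV
  have hgen : ∀ s : Γ(M, f ⁻¹ᵁ V), M.presheaf.germ (f ⁻¹ᵁ V) x hxV s ∈ LinearMap.range (stL ε x) := fun s => by
    refine ⟨M2.stalkUnitHom f x ((Scheme.Modules.pushforward f).obj M)
      (((Scheme.Modules.pushforward f).obj M).presheaf.germ V (f x) hxV s), ?_⟩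
    rw [M2.stalkUnitHom_germ]
    refine (M1.germ_naturality ε (f ⁻¹ᵁ V) x hxV _).trans ?_
    refine congrArg (M.presheaf.germ (f ⁻¹ᵁ V) x hxV) ?_
    exact congr(($((Scheme.Modules.pullbackPushforwardAdjunction f).right_triangle_components M)).app V s)
  let U' : X'.Opens := g' ⁻¹ᵁ U
  have hle : U' ≤ g' ⁻¹ᵁ (f ⁻¹ᵁ V) := g'.preimage_mono hUV
  let res : Γ(Q, f' ⁻¹ᵁ (g ⁻¹ᵁ V)) → Γ(Q, U') := M1.mres Q e
  have hspan : Submodule.span Γ(X', U') (Set.range res) = ⊤ := by
    refine span_eq_top_of_germ Q (hU.preimage g') _ fun y hy => ?_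
    rw [← Set.range_comp]
    refine Eq.trans ?_ (GGen15.germ_span_of_epi_counit f' hQ (hV.preimage g) y (e hy))
    congr 2
    funext s
    exact M1.germ_mres Q e hy s
  obtain ⟨a, m, ha, ham⟩ := M1.exists_germ_smul_eq M hU hxU b
  suffices hm : ∀ m : Γ(M, U), M.presheaf.germ U x hxU m ∈ LinearMap.range (stL ε x) by
    obtain ⟨w, hw⟩ := ha
    have : b = (↑w⁻¹ : X.presheaf.stalk x) • M.presheaf.germ U x hxU m := by
      rw [← ham, ← hw, ← mul_smul, Units.inv_mul, one_smul]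
    rw [this]
    exact Submodule.smul_mem _ _ (hm m)
  let N : AddSubgroup Γ(M, U) :=
    (LinearMap.range (stL ε x)).toAddSubgroup.comap (M.presheaf.germ U x hxU).hom
  let L : AddSubgroup Γ(Q, U') :=
    AddSubgroup.closure {z | ∃ a s, (g'.app U).hom a • res s = z}
  have hres : ∀ s, res s ∈ L := fun s => AddSubgroup.subset_closure ⟨1, s, by rw [map_one, one_smul]⟩
  have hL : ∀ c : Γ(X', U'), ∀ z ∈ L, c • z ∈ L := by
    intro c
    have hc : c ∈ Subring.closure (Set.range (g'.app U).hom ∪ Set.range (f'.appLE (g ⁻¹ᵁ V) U' e).hom) := by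
      rw [closure_app_eq_top f g g' f' hsq hV hU hUV e]; trivial
    induction hc using Subring.closure_induction with
    | mem w hw =>
      intro z hz
      induction hz using AddSubgroup.closure_induction with
      | mem z hz =>
        obtain ⟨a, s, rfl⟩ := hz
        refine AddSubgroup.subset_closure ?_
        rcases hw with ⟨a', rfl⟩ | ⟨d, rfl⟩
        · exact ⟨a' * a, s, by rw [map_mul, mul_smul]⟩
        · exact ⟨a, f'.app (g ⁻¹ᵁ V) d • s, by
            rw [smul_comm]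
            exact congrArg _ (M1.mres_smul Q e (f'.app (g ⁻¹ᵁ V) d) s)⟩
      | zero => rw [smul_zero]; exact L.zero_mem
      | add p q _ _ hp hq => rw [smul_add]; exact L.add_mem hp hq
      | neg p _ hp => rw [smul_neg]; exact L.neg_mem hp
    | zero => intro z _; rw [zero_smul]; exact L.zero_mem
    | one => intro z hz; rwa [one_smul]
    | add c d _ _ hc hd => intro z hz; rw [add_smul]; exact L.add_mem (hc z hz) (hd z hz)
    | neg c _ hc => intro z hz; rw [neg_smul]; exact L.neg_mem (hc z hz)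
    | mul c d _ _ hc hd => intro z hz; rw [mul_smul]; exact hc _ (hd z hz)
  have hN : ∀ z ∈ L, (show Γ(M, U) from z) ∈ N := by
    intro z hz
    induction hz using AddSubgroup.closure_induction with
    | mem z hz =>
      obtain ⟨a, s, rfl⟩ := hz
      have e' : g' ⁻¹ᵁ (f ⁻¹ᵁ V) = f' ⁻¹ᵁ (g ⁻¹ᵁ V) := by
        rw [← Scheme.Hom.comp_preimage, hsq.w, Scheme.Hom.comp_preimage]
      let s' : Γ(M, f ⁻¹ᵁ V) := M1.mres Q e'.le s
      have hs : (show Γ(M, U) from res s) = M1.mres M hUV s' :=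
        (M1.mres_mres Q e'.le hle s).symm
      show M.presheaf.germ U x hxU (a • (show Γ(M, U) from res s)) ∈ LinearMap.range (stL ε x)
      rw [M1.germ_smul, hs, M1.germ_mres M hUV hxU s']
      exact Submodule.smul_mem _ _ (hgen s')
    | zero => exact N.zero_mem
    | add p q _ _ hp hq => exact N.add_mem hp hq
    | neg p _ hp => exact N.neg_mem hp
  intro m
  have hm : (show Γ(Q, U') from m) ∈ Submodule.span Γ(X', U') (Set.range res) := by rw [hspan]; trivial
  obtain ⟨l, hl⟩ := Finsupp.mem_span_range_iff_exists_finsupp.1 hm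
  show m ∈ N
  refine hN _ ?_
  rw [← hl]
  exact L.sum_mem fun i _ => hL _ _ (hres i)

end Groth.Agent.AffTwist10
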